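import Groth.Agent.UnipCrit.SubInv
import Groth.Agent.ComodLib.Unitriangular
import Groth.Agent.ComodLib.Push
import Groth.Agent.ComodLib.Reductive
import Groth.Agent.GrpSchLib.HopfTransfer
import Groth.Agent.GrpSchLib.SimpleFinite
import Mathlib.RingTheory.Bialgebra.Quotient
import Mathlib.RingTheory.HopfAlgebra.Quotient
import Mathlib.RingTheory.Finiteness.Subalgebra

/-!
# Unipotence via primitive elements
-/

universe u v

open TensorProduct

namespace Groth.Agent.UnipCrit

open ComodLib

variable {k : Type u} [Field k] {A : Type v} [CommRing A]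

/-- A nonzero comodule whose coaction meets a comultiplicative filtration starting with the constants
has a nonzero fixed vector. -/
theorem exists_fixed_of_mem_level [Bialgebra k A] {V : Type v} [AddCommGroup V] [Module k V] [HopfRep.Comod k A V]
    {C : ℕ → Submodule k A} (hmono : Monotone C) (h0 : C 0 = Submodule.span k {(1 : A)})
    (hcomul : ∀ r, Submodule.map (CoalgebraStruct.comul (R := k) (A := A)) (C r) ≤
      ⨆ i ∈ Finset.range (r + 1), LinearMap.range (TensorProduct.mapIncl (C i) (C (r - i))))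
    {r₀ : ℕ} {v₀ : V} (hv₀ : v₀ ≠ 0)
    (hmem : HopfRep.Comod.coact (k := k) (A := A) v₀ ∈ LinearMap.range ((C r₀).subtype.lTensor V)) :
    HopfRep.fixedPts k A V ≠ ⊥ := by
  classical
  have hex : ∃ r, ∃ v : V, v ≠ 0 ∧
      HopfRep.Comod.coact (k := k) (A := A) v ∈ LinearMap.range ((C r).subtype.lTensor V) := ⟨r₀, v₀, hv₀, hmem⟩
  obtain ⟨v, hv0, z, hz⟩ := Nat.find_spec hex
  refine (Submodule.ne_bot_iff _).mpr ⟨v, (fixedPts_actF v).mpr fun φ => ?_, hv0⟩
  suffices h : ∀ ψ : A →ₗ[k] k, ψ 1 = 0 → actF ψ v = 0 by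
    have h' := h (φ - φ 1 • Coalgebra.counit) (by simp [Bialgebra.counit_one])
    rw [sub_eq_add_neg, actF_add, show -(φ 1 • Coalgebra.counit (R := k) (A := A)) = (-(φ 1)) • Coalgebra.counit from
      (neg_smul _ _).symm, actF_smul, LinearMap.add_apply, LinearMap.smul_apply, actF_counit,
      neg_smul, ← sub_eq_add_neg] at h'
    exact sub_eq_zero.mp h'
  intro ψ hψ
  by_contra hne
  have hψ0 : ∀ a ∈ C 0, ψ a = 0 := fun a ha => by
    rw [h0, Submodule.mem_span_singleton] at ha
    obtain ⟨s, rfl⟩ := ha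
    rw [map_smul, hψ, smul_zero]
  rcases Nat.eq_zero_or_pos (Nat.find hex) with hr0 | hrpos
  · apply hne
    rw [actF_apply, ← hz]
    clear hz
    induction z using TensorProduct.induction_on with
    | zero => simp
    | tmul x a => simp [hψ0 _ (hr0 ▸ a.2 : (a : A) ∈ C 0)]
    | add p q hp hq => simp only [map_add, hp, hq, add_zero]
  · refine Nat.find_min hex (m := Nat.find hex - 1) (by omega) ⟨actF ψ v, hne, ?_⟩
    have hc := congrArg (TensorProduct.assoc k V A A).symm
      (LinearMap.congr_fun (HopfRep.Comod.coassoc (k := k) (A := A) (V := V)) v)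
    simp only [LinearMap.comp_apply, LinearEquiv.coe_coe, LinearEquiv.symm_apply_apply] at hc
    have e : HopfRep.Comod.coact (k := k) (A := A) (actF ψ v) =
        slice ψ ((HopfRep.Comod.coact (k := k) (A := A)).rTensor A (HopfRep.Comod.coact (k := k) (A := A) v)) := by
      rw [slice_rTensor]
      rfl
    rw [e, hc, ← hz]
    clear hz hc e
    induction z using TensorProduct.induction_on with
    | zero => simp
    | add p q hp hq => simpa only [map_add] using Submodule.add_mem _ hp hq
    | tmul x a =>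
      rw [LinearMap.lTensor_tmul, LinearMap.lTensor_tmul]
      have hd := hcomul _ (Submodule.mem_map_of_mem a.2)
      revert hd
      rw [Submodule.subtype_apply]
      generalize Coalgebra.comul (R := k) (a : A) = d
      intro hd
      let L : A ⊗[k] A →ₗ[k] V ⊗[k] A :=
        slice ψ ∘ₗ (TensorProduct.assoc k V A A).symm.toLinearMap ∘ₗ TensorProduct.mk k V (A ⊗[k] A) x
      suffices (⨆ i ∈ Finset.range (Nat.find hex + 1),
          LinearMap.range (TensorProduct.mapIncl (C i) (C (Nat.find hex - i)))) ≤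
          Submodule.comap L (LinearMap.range ((C (Nat.find hex - 1)).subtype.lTensor V)) from this hd
      refine iSup₂_le fun i hi => ?_
      rintro _ ⟨w, rfl⟩
      rw [Submodule.mem_comap]
      induction w using TensorProduct.induction_on with
      | zero => simp
      | add p q hp hq => simpa only [map_add] using Submodule.add_mem _ hp hq
      | tmul p q =>
        have hL : L (TensorProduct.mapIncl (C i) (C (Nat.find hex - i)) (p ⊗ₜ[k] q)) = ψ q • (x ⊗ₜ[k] (p : A)) := by
          simp [L]
        rw [hL]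
        by_cases hi' : i ≤ Nat.find hex - 1
        · exact Submodule.smul_mem _ _ ⟨x ⊗ₜ[k] ⟨p, hmono hi' p.2⟩, rfl⟩
        · have hq0 : ψ q = 0 := hψ0 _ (by
            have hi2 := Finset.mem_range.mp hi
            have : Nat.find hex - i = 0 := by omega
            exact this ▸ q.2)
          rw [hq0, zero_smul]
          exact Submodule.zero_mem _

variable {B : Type v} [CommRing B]

/-- A quotient of a unipotent bialgebra is unipotent. -/
theorem isUnipotent_of_surjective [Bialgebra k A] [Bialgebra k B] (π : A →ₐc[k] B) (hπ : Function.Surjective π)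
    (hU : HopfRep.IsUnipotent k A) : HopfRep.IsUnipotent k B := by
  refine isUnipotent_of_filtration (C := fun r => (uniLevel k A r).map (π : A →ₐ[k] B).toLinearMap)
    (fun r s h => Submodule.map_mono (uniLevel_mono h)) ?_ ?_ fun r => ?_
  · show (uniLevel k A 0).map _ = _
    rw [uniLevel_zero, Submodule.map_span, Set.image_singleton]
    simp
  · rw [← Submodule.map_iSup, iSup_uniLevel_eq_top hU, Submodule.map_top, LinearMap.range_eq_top]
    exact hπ
  · rintro _ ⟨_, ⟨a, ha, rfl⟩, rfl⟩
    have hd := map_comul_uniLevel r (Submodule.mem_map_of_mem ha)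
    have hc : Coalgebra.comul (R := k) ((π : A →ₐ[k] B).toLinearMap a) =
        TensorProduct.map (π : A →ₐ[k] B).toLinearMap (π : A →ₐ[k] B).toLinearMap (Coalgebra.comul (R := k) a) :=
      (CoalgHomClass.map_comp_comul_apply π a).symm
    rw [hc]
    suffices hle : (⨆ i ∈ Finset.range (r + 1), LinearMap.range (TensorProduct.mapIncl (uniLevel k A i) (uniLevel k A (r - i)))) ≤
        Submodule.comap (TensorProduct.map (π : A →ₐ[k] B).toLinearMap (π : A →ₐ[k] B).toLinearMap)
          (⨆ i ∈ Finset.range (r + 1), LinearMap.range (TensorProduct.mapIncl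
            ((uniLevel k A i).map (π : A →ₐ[k] B).toLinearMap) ((uniLevel k A (r - i)).map (π : A →ₐ[k] B).toLinearMap))) from
      hle hd
    refine iSup₂_le fun i hi => ?_
    rintro _ ⟨w, rfl⟩
    refine Submodule.mem_iSup_of_mem i (Submodule.mem_iSup_of_mem hi
      ⟨TensorProduct.map ((π : A →ₐ[k] B).toLinearMap.restrict fun x hx => Submodule.mem_map_of_mem hx)
        ((π : A →ₐ[k] B).toLinearMap.restrict fun x hx => Submodule.mem_map_of_mem hx) w, ?_⟩)
    induction w using TensorProduct.induction_on with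
    | zero => simp
    | tmul p q => simp
    | add p q hp hq => simp only [map_add, hp, hq]

/-- A unipotent bialgebra with an element outside the constants has a nonzero primitive element. -/
theorem exists_primitive_of_isUnipotent [Bialgebra k B] (hU : HopfRep.IsUnipotent k B) {b : B}
    (hb : b ∉ Submodule.span k {(1 : B)}) :
    ∃ x : B, x ≠ 0 ∧ Coalgebra.comul (R := k) x = x ⊗ₜ[k] (1 : B) + (1 : B) ⊗ₜ[k] x := by
  classical
  have hex : ∃ r, ¬ uniLevel k B r ≤ Submodule.span k {(1 : B)} := by
    by_contra! h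
    exact hb ((iSup_le h) ((iSup_uniLevel_eq_top hU) ▸ Submodule.mem_top (x := b)))
  obtain ⟨x, hx, hx1⟩ := SetLike.not_le_iff_exists.mp (Nat.find_spec hex)
  have hlow : ∀ i < Nat.find hex, uniLevel k B i ≤ Submodule.span k {(1 : B)} := fun i hi =>
    not_not.mp (Nat.find_min hex hi)
  let P : Submodule k (B ⊗[k] B) :=
    LinearMap.range (TensorProduct.mk k B B 1) ⊔ LinearMap.range ((TensorProduct.mk k B B).flip 1)
  have hP : Coalgebra.comul (R := k) x ∈ P := by
    refine (show _ ≤ P from iSup₂_le fun i hi => ?_) (map_comul_uniLevel _ (Submodule.mem_map_of_mem hx))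
    rintro _ ⟨w, rfl⟩
    induction w using TensorProduct.induction_on with
    | zero => simp
    | add p q hp hq => rw [map_add]; exact P.add_mem hp hq
    | tmul p q =>
      show (p : B) ⊗ₜ[k] (q : B) ∈ P
      rcases lt_or_ge i (Nat.find hex) with h | h
      · obtain ⟨t, ht⟩ := Submodule.mem_span_singleton.mp (hlow i h p.2)
        rw [← ht, TensorProduct.smul_tmul]
        exact Submodule.mem_sup_left ⟨_, rfl⟩
      · have hi' : i < Nat.find hex + 1 := Finset.mem_range.mp hi
        have h0 : Nat.find hex - i = 0 := by omega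
        have hq : (q : B) ∈ Submodule.span k {(1 : B)} := by
          have hq' := q.2
          simp only [h0, uniLevel_zero] at hq'
          exact hq'
        obtain ⟨t, ht⟩ := Submodule.mem_span_singleton.mp hq
        rw [← ht, ← TensorProduct.smul_tmul]
        exact Submodule.mem_sup_right ⟨_, rfl⟩
  obtain ⟨_, ⟨a, rfl⟩, _, ⟨c, rfl⟩, he⟩ := Submodule.mem_sup.mp hP
  simp only [TensorProduct.mk_apply, LinearMap.flip_apply] at he
  let ε : B →ₗ[k] k := Coalgebra.counit
  have hl := congrArg (TensorProduct.lid k B) (Coalgebra.rTensor_counit_comul (R := k) x)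
  have hr := congrArg (TensorProduct.rid k B) (Coalgebra.lTensor_counit_comul (R := k) x)
  rw [← he] at hl hr
  simp only [map_add, LinearMap.rTensor_tmul, LinearMap.lTensor_tmul, TensorProduct.lid_tmul, TensorProduct.rid_tmul,
    Bialgebra.counit_one, one_smul] at hl hr
  have ha : a = x - ε c • (1 : B) := eq_sub_of_add_eq hl
  have hc : c = x - ε a • (1 : B) := eq_sub_of_add_eq' hr
  have he2 : Coalgebra.counit (R := k) a + Coalgebra.counit (R := k) c = Coalgebra.counit (R := k) x := by
    simpa [Bialgebra.counit_one] using congrArg (Coalgebra.counit (R := k)) hl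
  refine ⟨x - ε x • (1 : B), fun h => hx1 (Submodule.mem_span_singleton.mpr ⟨ε x, (sub_eq_zero.mp h).symm⟩), ?_⟩
  rw [map_sub, map_smul, Bialgebra.comul_one, ← he, Algebra.TensorProduct.one_def]
  have e1 : x - ε x • (1 : B) = c + (ε a - ε x) • (1 : B) := by rw [hc, sub_smul]; abel
  have e2 : x - ε x • (1 : B) = a + (ε c - ε x) • (1 : B) := by rw [ha, sub_smul]; abel
  have key : (x - ε x • (1 : B)) ⊗ₜ[k] (1 : B) + (1 : B) ⊗ₜ[k] (x - ε x • (1 : B)) =
      (c + (ε a - ε x) • (1 : B)) ⊗ₜ[k] (1 : B) + (1 : B) ⊗ₜ[k] (a + (ε c - ε x) • (1 : B)) := by rw [← e1, ← e2]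
  rw [key, show ε x = ε a + ε c from he2.symm]
  simp only [sub_smul, add_smul, TensorProduct.sub_tmul, TensorProduct.tmul_sub, TensorProduct.add_tmul,
    TensorProduct.tmul_add, TensorProduct.tmul_smul, ← TensorProduct.smul_tmul']
  abel

variable [HopfAlgebra k B]

theorem isHopfIdeal_span_primitive {x : B}
    (h : Coalgebra.comul (R := k) x = x ⊗ₜ[k] (1 : B) + (1 : B) ⊗ₜ[k] x) :
    Coalgebra.counit (R := k) x = (0 : k) ∧ HopfAlgebraStruct.antipode (R := k) x = -x ∧
      (Ideal.span {x}).IsHopfIdeal k := by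
  have h0 : Coalgebra.counit (R := k) x = (0 : k) := by
    have h1 := congrArg (fun w => Bialgebra.counitAlgHom k B (TensorProduct.rid k B w))
      (Coalgebra.lTensor_counit_comul (R := k) x)
    rw [h] at h1
    simpa using h1
  have hS : HopfAlgebraStruct.antipode (R := k) x = -x := by
    have h1 := HopfAlgebra.mul_antipode_rTensor_comul_apply (R := k) x
    rw [h, h0, map_zero] at h1
    simpa [eq_neg_iff_add_eq_zero] using h1
  refine ⟨h0, hS, ?_⟩
  let I : Ideal B := Ideal.span {x}
  have hmem : x ∈ I := Ideal.subset_span rfl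
  let q := Ideal.Quotient.mkₐ k I
  have hq : q x = 0 := Ideal.Quotient.eq_zero_iff_mem.mpr hmem
  refine @Ideal.IsHopfIdeal.mk _ _ _ _ _ I ⟨fun z hz => ?_, fun z hz => ?_⟩ fun z hz => ?_
  · obtain ⟨a, rfl⟩ := Ideal.mem_span_singleton.mp hz
    rw [Bialgebra.counit_mul, h0, zero_mul]
  · obtain ⟨a, rfl⟩ := Ideal.mem_span_singleton.mp hz
    show Algebra.TensorProduct.map q q (Coalgebra.comul (R := k) (x * a)) = 0
    rw [Bialgebra.comul_mul, map_mul, h, map_add, Algebra.TensorProduct.map_tmul, Algebra.TensorProduct.map_tmul, hq,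
      TensorProduct.zero_tmul, TensorProduct.tmul_zero, add_zero, zero_mul]
  · obtain ⟨a, rfl⟩ := Ideal.mem_span_singleton.mp hz
    rw [HopfAlgebra.antipode_mul_distrib, hS]
    exact Ideal.mul_mem_right _ _ (I.neg_mem hmem)

theorem coeff_fixed {T : Type v} [CommRing T] [Algebra k T] (q : B →ₗ[k] T)
    {V : Type v} [AddCommGroup V] [Module k V] [HopfRep.Comod k B V] (f : V →ₗ[k] k) {v : V}
    (hv : q.lTensor V (HopfRep.Comod.coact (k := k) (A := B) v) = v ⊗ₜ[k] (1 : T)) :
    q.lTensor B (Coalgebra.comul (R := k) (TensorProduct.lid k B (f.rTensor B (HopfRep.Comod.coact (k := k) (A := B) v)))) =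
      TensorProduct.lid k B (f.rTensor B (HopfRep.Comod.coact (k := k) (A := B) v)) ⊗ₜ[k] (1 : T) := by
  let Φ : V ⊗[k] B →ₗ[k] B ⊗[k] T :=
    ((TensorProduct.lid k B).toLinearMap ∘ₗ f.rTensor B ∘ₗ (HopfRep.Comod.coact (k := k) (A := B) (V := V))).rTensor T ∘ₗ
      q.lTensor V
  have h1 : Φ (HopfRep.Comod.coact (k := k) (A := B) v) =
      TensorProduct.lid k B (f.rTensor B (HopfRep.Comod.coact (k := k) (A := B) v)) ⊗ₜ[k] (1 : T) := by
    simp only [Φ, LinearMap.comp_apply, hv, LinearMap.rTensor_tmul, LinearEquiv.coe_coe]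
  refine Eq.trans ?_ h1
  let Ψ : V ⊗[k] (B ⊗[k] B) →ₗ[k] B ⊗[k] T :=
    q.lTensor B ∘ₗ (TensorProduct.lid k (B ⊗[k] B)).toLinearMap ∘ₗ f.rTensor (B ⊗[k] B)
  have h2 := congrArg Ψ (LinearMap.congr_fun (HopfRep.Comod.coassoc (k := k) (A := B) (V := V)) v)
  simp only [LinearMap.comp_apply, LinearEquiv.coe_coe] at h2
  have hl : ∀ z : V ⊗[k] B, Ψ ((TensorProduct.assoc k V B B)
      ((HopfRep.Comod.coact (k := k) (A := B) (V := V)).rTensor B z)) = Φ z := by
    intro z
    induction z using TensorProduct.induction_on with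
    | zero => simp
    | add s t hs ht => simp only [map_add, hs, ht]
    | tmul w b =>
      simp only [Φ, LinearMap.comp_apply, LinearMap.rTensor_tmul, LinearMap.lTensor_tmul, LinearEquiv.coe_coe]
      induction HopfRep.Comod.coact (k := k) (A := B) w using TensorProduct.induction_on with
      | zero => simp
      | add s t hs ht => simp only [TensorProduct.add_tmul, map_add, hs, ht]
      | tmul y c => simp [Ψ, TensorProduct.smul_tmul']
  have hr : ∀ z : V ⊗[k] B, Ψ ((Coalgebra.comul (R := k) (A := B)).lTensor V z) =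
      q.lTensor B (Coalgebra.comul (R := k) (TensorProduct.lid k B (f.rTensor B z))) := by
    intro z
    induction z using TensorProduct.induction_on with
    | zero => simp
    | add s t hs ht => simp only [map_add, hs, ht]
    | tmul w b => simp [Ψ]
  rw [hl, hr] at h2
  exact h2.symm

/-- If a primitive element cuts out a unipotent subgroup, the group is unipotent. -/
theorem isUnipotent_of_primitive [Algebra.FiniteType k B] {x : B}
    (h : Coalgebra.comul (R := k) x = x ⊗ₜ[k] (1 : B) + (1 : B) ⊗ₜ[k] x) [(Ideal.span {x}).IsHopfIdeal k]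
    (hU : HopfRep.IsUnipotent k (B ⧸ Ideal.span {x})) : HopfRep.IsUnipotent k B := by
  classical
  intro V _ _ cV hfin hnt
  obtain ⟨h0, hS, -⟩ := isHopfIdeal_span_primitive h
  let π : B →ₐc[k] B ⧸ Ideal.span {x} := Bialgebra.Quotient.mkBialgHom _
  obtain ⟨v, hv, hv0⟩ : ∃ v : V, (π : B →ₐ[k] _).toLinearMap.lTensor V (cV.coact v) =
      v ⊗ₜ[k] (1 : B ⧸ Ideal.span {x}) ∧ v ≠ 0 := by
    letI : HopfRep.Comod k (B ⧸ Ideal.span {x}) V := pushComod (π : B →ₗc[k] _) cV
    obtain ⟨v, hv, hv0⟩ := Submodule.exists_mem_ne_zero_of_ne_bot (hU V hfin hnt)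
    exact ⟨v, hv, hv0⟩
  let S : Subalgebra k B := Algebra.adjoin k {x}
  haveI : Algebra.FiniteType k S := (Subalgebra.fg_iff_finiteType S).mp ⟨{x}, by simp [S]⟩
  have hxS : x ∈ S := Algebra.self_mem_adjoin_singleton k x
  let R := (Algebra.TensorProduct.map S.val S.val).range
  have h1 : ∀ s : S, Coalgebra.comul (R := k) (S.val s) ∈ R := fun s => by
    have hle : S ≤ R.comap (Bialgebra.comulAlgHom k B) := by
      refine Algebra.adjoin_le (Set.singleton_subset_iff.mpr ?_)
      show Coalgebra.comul (R := k) x ∈ R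
      rw [h]
      exact R.add_mem ⟨(⟨x, hxS⟩ : S) ⊗ₜ[k] (1 : S), rfl⟩ ⟨(1 : S) ⊗ₜ[k] (⟨x, hxS⟩ : S), rfl⟩
    exact hle s.2
  have h2 : ∀ s : S, HopfAlgebraStruct.antipode (R := k) (S.val s) ∈ S.val.range := fun s => by
    have hle : S ≤ S.comap (HopfAlgebra.antipodeAlgHom k B) := by
      refine Algebra.adjoin_le (Set.singleton_subset_iff.mpr ?_)
      show HopfAlgebraStruct.antipode (R := k) x ∈ S
      rw [hS]
      exact S.neg_mem hxS
    rw [Subalgebra.range_val]
    exact hle s.2
  letI := GrpSchLib.HopfTransfer.hopf S.val Subtype.val_injective h1 h2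
  let ψ : S →ₐc[k] B := BialgHom.ofAlgHom S.val rfl
    (AlgHom.ext fun s => GrpSchLib.HopfTransfer.map_comulRes S.val Subtype.val_injective h1 s)
  have hle : Ideal.span {x} ≤ Ideal.map (ψ : S →+* B) (RingHom.ker (Bialgebra.counitAlgHom k S)) :=
    (Ideal.span_singleton_le_iff_mem _).mpr (Ideal.mem_map_of_mem (ψ : S →+* B) (x := ⟨x, hxS⟩) h0)
  let L : ℕ → Submodule k B := fun r => Submodule.span k ((fun i => x ^ i) '' Set.Iic r)
  have hLmono : Monotone L := fun r s hrs => Submodule.span_mono (Set.image_mono (Set.Iic_subset_Iic.mpr hrs))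
  have hpow : ∀ {i r}, i ≤ r → x ^ i ∈ L r := fun {i r} hi => Submodule.subset_span ⟨i, hi, rfl⟩
  have hL0 : L 0 = Submodule.span k {(1 : B)} := by
    show Submodule.span k ((fun i => x ^ i) '' Set.Iic (0 : ℕ)) = _
    rw [show Set.Iic (0 : ℕ) = {0} from Set.ext fun i => by simp, Set.image_singleton, pow_zero]
  have hLc : ∀ r, Submodule.map (Coalgebra.comul (R := k) (A := B)) (L r) ≤
      ⨆ i ∈ Finset.range (r + 1), LinearMap.range (TensorProduct.mapIncl (L i) (L (r - i))) := by
    intro r
    rw [Submodule.map_span, Submodule.span_le]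
    rintro _ ⟨_, ⟨n, hn, rfl⟩, rfl⟩
    rw [SetLike.mem_coe, show Coalgebra.comul (R := k) (x ^ n) = (Coalgebra.comul (R := k) x) ^ n from
      map_pow (Bialgebra.comulAlgHom k B) x n, h, add_pow]
    refine Submodule.sum_mem _ fun m hm => ?_
    rw [Finset.mem_range] at hm
    have hn' : n ≤ r := hn
    rw [Algebra.TensorProduct.tmul_pow, Algebra.TensorProduct.tmul_pow, Algebra.TensorProduct.tmul_mul_tmul,
      one_pow, one_pow, mul_one, one_mul, ← nsmul_eq_mul']
    refine Submodule.smul_of_tower_mem _ _ (Submodule.mem_iSup_of_mem m (Submodule.mem_iSup_of_mem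
      (Finset.mem_range.mpr (by omega)) ?_))
    exact ⟨(⟨x ^ m, hpow le_rfl⟩ : L m) ⊗ₜ[k] (⟨x ^ (n - m), hpow (by omega)⟩ : L (r - m)), rfl⟩
  have hsup : ∀ s ∈ S, ∃ r, s ∈ L r := by
    intro s hs
    obtain ⟨P, rfl⟩ : ∃ P : Polynomial k, Polynomial.aeval x P = s := by
      rw [show S = (Polynomial.aeval (R := k) x).range from Algebra.adjoin_singleton_eq_range_aeval k x] at hs
      exact hs
    refine ⟨P.natDegree, ?_⟩
    rw [Polynomial.aeval_eq_sum_range]
    exact Submodule.sum_mem _ fun i hi => Submodule.smul_mem _ _ (hpow (by simp at hi; omega))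
  let b := Module.finBasis k V
  let c : Fin (Module.finrank k V) → B := fun i => TensorProduct.lid k B ((b.coord i).rTensor B (cV.coact v))
  have hc : ∀ i, c i ∈ S := fun i => by
    have hfix := coeff_fixed (B := B) (T := B ⧸ Ideal.span {x}) (π : B →ₐ[k] B ⧸ Ideal.span {x}).toLinearMap (V := V) (b.coord i) (v := v) hv
    have hex : Coalgebra.comul (R := k) (c i) - c i ⊗ₜ[k] (1 : B) ∈
        LinearMap.range (((Ideal.span {x}).restrictScalars k).subtype.lTensor B) := by
      refine (lTensor_exact B (f := ((Ideal.span {x}).restrictScalars k).subtype)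
        (g := (π : B →ₐ[k] B ⧸ Ideal.span {x}).toLinearMap) ?_ Ideal.Quotient.mk_surjective _).mp ?_
      · intro z
        refine Ideal.Quotient.eq_zero_iff_mem.trans ⟨fun hz => ⟨⟨z, hz⟩, rfl⟩, ?_⟩
        rintro ⟨y, rfl⟩
        exact y.2
      · rw [map_sub, LinearMap.lTensor_tmul, sub_eq_zero]
        exact hfix.trans (congrArg (fun t : B ⧸ Ideal.span {x} => c i ⊗ₜ[k] t)
          (map_one (π : B →ₐ[k] B ⧸ Ideal.span {x})).symm)
    have hinc : ((Ideal.span {x}).restrictScalars k) ≤
        (Ideal.map (ψ : S →+* B) (RingHom.ker (Bialgebra.counitAlgHom k S))).restrictScalars k := fun z hz => hle hz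
    obtain ⟨z, hz⟩ := hex
    obtain ⟨s, hs⟩ := mem_range_of_comul_sub_mem ψ Subtype.val_injective (c i)
      ⟨(Submodule.inclusion hinc).lTensor B z, by
        rw [← LinearMap.comp_apply, ← LinearMap.lTensor_comp]; exact hz⟩
    exact hs ▸ s.2
  choose r hr using fun i => hsup (c i) (hc i)
  refine exists_fixed_of_mem_level hLmono hL0 hLc (r₀ := Finset.univ.sup r) hv0 ?_
  have hv' : cV.coact v = ∑ i, b i ⊗ₜ[k] c i := by
    simp only [c]
    induction cV.coact v using TensorProduct.induction_on with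
    | zero => simp
    | add p q hp hq => simp only [map_add, TensorProduct.tmul_add, Finset.sum_add_distrib, ← hp, ← hq]
    | tmul w a =>
      simp only [LinearMap.rTensor_tmul, TensorProduct.lid_tmul, Module.Basis.coord_apply, ← TensorProduct.smul_tmul,
        ← TensorProduct.sum_tmul, b.sum_repr]
  rw [hv']
  exact Submodule.sum_mem _ fun i _ =>
    ⟨b i ⊗ₜ[k] ⟨c i, hLmono (Finset.le_sup (Finset.mem_univ i)) (hr i)⟩, rfl⟩

/-- If every nontrivial quotient Hopf algebra has a nonzero primitive element, so does every nontrivial quotient,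
hence all of them are unipotent. -/
theorem isUnipotent_of_quotients [HopfAlgebra k A] [Algebra.FiniteType k A]
    (H : ∀ (I : Ideal A) [I.IsHopfIdeal k], I ≠ RingHom.ker (Bialgebra.counitAlgHom k A) →
      ∃ x : A ⧸ I, x ≠ 0 ∧ Coalgebra.comul (R := k) x = x ⊗ₜ[k] (1 : A ⧸ I) + (1 : A ⧸ I) ⊗ₜ[k] x) :
    HopfRep.IsUnipotent k A := by
  haveI : IsNoetherianRing A := Algebra.FiniteType.isNoetherianRing k A
  suffices ∀ (I : Ideal A) (B : Type v) [CommRing B] [HopfAlgebra k B] (f : A →ₐc[k] B),
      Function.Surjective f → RingHom.ker (f : A →ₐ[k] B) = I → HopfRep.IsUnipotent k B from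
    this _ A (BialgHom.id k A) Function.surjective_id rfl
  intro I
  induction I using WellFoundedGT.induction with
  | _ I ih =>
    intro B _ _ f hf hker
    haveI : Algebra.FiniteType k B := Algebra.FiniteType.of_surjective (f : A →ₐ[k] B) hf
    by_cases hI : I = RingHom.ker (Bialgebra.counitAlgHom k A)
    · intro V _ _ cV _ hnt
      obtain ⟨v₀, hv₀⟩ := exists_ne (0 : V)
      refine (Submodule.ne_bot_iff _).mpr ⟨v₀, (fixedPts_actF v₀).mpr fun φ => ?_, hv₀⟩
      have hall : φ = φ 1 • Coalgebra.counit (R := k) (A := B) := LinearMap.ext fun y => by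
        obtain ⟨a, rfl⟩ := hf y
        have hm : a - algebraMap k A (Coalgebra.counit (R := k) a) ∈ RingHom.ker (f : A →ₐ[k] B) := by
          rw [hker, hI, RingHom.mem_ker, map_sub, AlgHom.commutes]
          simp
        have he : f a = algebraMap k B (Coalgebra.counit (R := k) a) := by
          rw [RingHom.mem_ker, map_sub, AlgHom.commutes, sub_eq_zero] at hm
          exact hm
        show φ (f a) = φ 1 • Coalgebra.counit (R := k) (f a)
        rw [CoalgHomClass.counit_comp_apply, he, Algebra.algebraMap_eq_smul_one, map_smul, smul_eq_mul, smul_eq_mul,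
          mul_comm]
      conv_lhs => rw [hall]
      rw [actF_smul, LinearMap.smul_apply, actF_counit]
    · haveI hHopf : (RingHom.ker (f : A →ₐ[k] B)).IsHopfIdeal k :=
        GrpSchLib.isHopfIdeal_ker f fun a ha => by
          rw [← GrpSchLib.HopfGalois.antipode_bialgHom, ha, map_zero]
      obtain ⟨x, hx0, hx⟩ := H (RingHom.ker (f : A →ₐ[k] B)) (hker ▸ hI)
      let g : (A ⧸ RingHom.ker (f : A →ₐ[k] B)) →ₐ[k] B := Ideal.kerLiftAlg (f : A →ₐ[k] B)
      have hy : Coalgebra.comul (R := k) (g x) = g x ⊗ₜ[k] (1 : B) + (1 : B) ⊗ₜ[k] g x := by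
        have e : Coalgebra.comul (R := k) (g x) = Algebra.TensorProduct.map g g (Coalgebra.comul (R := k) x) := by
          obtain ⟨a, rfl⟩ := Ideal.Quotient.mk_surjective x
          rw [show g (Ideal.Quotient.mk _ a) = f a from rfl, ← CoalgHomClass.map_comp_comul_apply f,
            show Ideal.Quotient.mk (RingHom.ker (f : A →ₐ[k] B)) a =
              (Bialgebra.Quotient.mkBialgHom (RingHom.ker (f : A →ₐ[k] B)) : A →ₐc[k] _) a from rfl,
            ← CoalgHomClass.map_comp_comul_apply
              (Bialgebra.Quotient.mkBialgHom (RingHom.ker (f : A →ₐ[k] B)) : A →ₐc[k] _)]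
          generalize Coalgebra.comul (R := k) a = z
          induction z using TensorProduct.induction_on with
          | zero => simp
          | tmul p q => rfl
          | add s t hs ht => simp only [map_add, hs, ht]
        rw [e, hx, map_add, Algebra.TensorProduct.map_tmul, Algebra.TensorProduct.map_tmul, map_one]
      have hy0 : g x ≠ 0 := fun h => hx0 (Ideal.kerLiftAlg_injective (f : A →ₐ[k] B) (h.trans (map_zero g).symm))
      haveI := (isHopfIdeal_span_primitive hy).2.2
      let π : B →ₐc[k] B ⧸ Ideal.span {g x} := Bialgebra.Quotient.mkBialgHom _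
      refine isUnipotent_of_primitive hy (ih (RingHom.ker ((π.comp f : A →ₐc[k] B ⧸ Ideal.span {g x}) : A →ₐ[k] B ⧸ Ideal.span {g x})) ?_
        (B ⧸ Ideal.span {g x}) (π.comp f) (Ideal.Quotient.mk_surjective.comp hf) rfl)
      refine lt_of_le_of_ne (fun a ha => ?_) fun h => hy0 ?_
      · rw [← hker] at ha
        show π (f a) = 0
        rw [show f a = 0 from ha, map_zero]
      · obtain ⟨a, ha⟩ := hf (g x)
        have h1 : a ∈ RingHom.ker ((π.comp f : A →ₐc[k] B ⧸ Ideal.span {g x}) : A →ₐ[k] B ⧸ Ideal.span {g x}) := by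
          show π (f a) = 0
          rw [ha]
          exact Ideal.Quotient.eq_zero_iff_mem.mpr (Ideal.subset_span rfl)
        rw [← h, ← hker] at h1
        exact ha.symm.trans h1

end Groth.Agent.UnipCrit
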