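import Groth.Agent.GrpSchLib.HopfFlat
import Groth.Agent.GrpSchLib.HopfQuotEtale
import Groth.Agent.DescLib.Amitsur

/-!
# Invariants of the kernel of a quotient map of affine groups
-/

universe u v w

set_option autoImplicit false
set_option backward.isDefEq.respectTransparency false
set_option backward.isDefEq.respectTransparency.types false

open TensorProduct WithConv

namespace Groth.Agent.UnipCrit

variable {k : Type u} [Field k] {A : Type v} {C : Type w} [CommRing A] [CommRing C] [HopfAlgebra k A] [HopfAlgebra k C]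
  [Algebra.FiniteType k A] [Algebra.FiniteType k C]

/-- For an injective map of commutative Hopf algebras `ψ : C → A`, an element of `A` invariant under
the kernel `Spec A/(ψ C⁺)A` of `Spec A → Spec C` comes from `C`. -/
theorem mem_range_of_comul_sub_mem (ψ : C →ₐc[k] A) (hψ : Function.Injective ψ) (a : A)
    (h : Coalgebra.comul (R := k) a - a ⊗ₜ[k] (1 : A) ∈
      LinearMap.range (((Ideal.map (ψ : C →+* A) (RingHom.ker (Bialgebra.counitAlgHom k C))).restrictScalars k).subtype.lTensor A)) :
    a ∈ Set.range ψ := by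
  letI : Algebra C A := (ψ : C →ₐ[k] A).toRingHom.toAlgebra
  haveI : IsScalarTower k C A := IsScalarTower.of_algebraMap_eq fun c => ((ψ : C →ₐ[k] A).commutes c).symm
  haveI : Module.FaithfullyFlat C A := GrpSchLib.HopfFlat.faithfullyFlat ψ hψ
  let L : A →ₐ[k] A ⊗[C] A := (Algebra.TensorProduct.includeLeft : A →ₐ[C] A ⊗[C] A).restrictScalars k
  let R : A →ₐ[k] A ⊗[C] A := (Algebra.TensorProduct.includeRight : A →ₐ[C] A ⊗[C] A).restrictScalars k
  let Θ : A →ₐ[k] A ⊗[C] A :=
    (toConv (L.comp (HopfAlgebra.antipodeAlgHom k A)) * toConv R).ofConv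
  have hLR : L.comp (ψ : C →ₐ[k] A) = R.comp (ψ : C →ₐ[k] A) :=
    AlgHom.ext fun c => (Algebra.TensorProduct.includeLeft : A →ₐ[C] A ⊗[C] A).commutes c |>.trans
      ((Algebra.TensorProduct.includeRight : A →ₐ[C] A ⊗[C] A).commutes c).symm
  have hΘ : Θ.comp (ψ : C →ₐ[k] A) = (1 : WithConv (C →ₐ[k] A ⊗[C] A)).ofConv := by
    show AlgHom.comp _ (ψ : C →ₐ[k] A) = _
    rw [AlgHom.convMul_comp_bialgHom_distrib]
    simp only [WithConv.ofConv_toConv, AlgHom.comp_assoc]
    rw [show (HopfAlgebra.antipodeAlgHom k A).comp (ψ : C →ₐ[k] A) =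
        (ψ : C →ₐ[k] A).comp (HopfAlgebra.antipodeAlgHom k C) from AlgHom.ext fun c =>
          GrpSchLib.HopfGalois.antipode_bialgHom ψ c, ← AlgHom.comp_assoc, hLR,
      GrpSchLib.HopfQuot.inv_convMul_self]
  have hJ : ∀ z ∈ Ideal.map (ψ : C →+* A) (RingHom.ker (Bialgebra.counitAlgHom k C)), Θ z = 0 := by
    intro z hz
    refine (Ideal.map_le_iff_le_comap.mpr (fun c hc => ?_) : _ ≤ RingHom.ker Θ.toRingHom) hz
    show Θ (ψ c) = 0
    refine (AlgHom.congr_fun hΘ c).trans ?_
    show algebraMap k _ (Coalgebra.counit (R := k) c) = 0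
    rw [show Coalgebra.counit (R := k) c = 0 from hc, map_zero]
  let m : A ⊗[k] A →ₐ[k] A ⊗[C] A := Algebra.TensorProduct.lift L Θ fun _ _ => Commute.all _ _
  have hm : m.comp (Bialgebra.comulAlgHom k A) = R := by
    have h1 : (toConv L * toConv Θ).ofConv = R := by
      show (toConv L * (toConv (L.comp (HopfAlgebra.antipodeAlgHom k A)) * toConv R)).ofConv = R
      rw [← mul_assoc, GrpSchLib.HopfQuot.self_convMul_inv, one_mul]
    refine AlgHom.ext fun x => ?_
    refine Eq.trans ?_ (AlgHom.congr_fun h1 x)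
    rw [GrpSchLib.HopfQuot.convMul_apply]
    show m (Coalgebra.comul (R := k) x) = _
    induction Coalgebra.comul (R := k) x using TensorProduct.induction_on with
    | zero => simp
    | tmul p q => simp [m]
    | add p q hp hq => simp only [map_add, hp, hq]
  have heq : (1 : A) ⊗ₜ[C] a = a ⊗ₜ[C] (1 : A) := by
    obtain ⟨z, hz⟩ := h
    have h0 : m (Coalgebra.comul (R := k) a - a ⊗ₜ[k] (1 : A)) = 0 := by
      rw [← hz]
      clear hz
      induction z using TensorProduct.induction_on with
      | zero => simp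
      | tmul p q => simp [m, hJ q.1 q.2]
      | add p q hp hq => simp only [map_add, hp, hq, add_zero]
    rw [map_sub, sub_eq_zero] at h0
    have h2 : m (Coalgebra.comul (R := k) a) = R a := AlgHom.congr_fun hm a
    rw [h2] at h0
    simpa [m, L, R] using h0
  let Q := A ⧸ LinearMap.range (Algebra.linearMap C A)
  let q : A →ₗ[C] Q := (LinearMap.range (Algebra.linearMap C A)).mkQ
  have h1 : (1 : A) ⊗ₜ[C] q a = 0 := by
    have := congrArg (q.lTensor A) heq
    simp only [LinearMap.lTensor_tmul] at this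
    rw [this, show q 1 = 0 from (Submodule.Quotient.mk_eq_zero _).mpr ⟨1, map_one (algebraMap C A)⟩, TensorProduct.tmul_zero]
  have h2 : q a = 0 := Module.FaithfullyFlat.tensorProduct_mk_injective (A := C) (B := A) Q (by simpa using h1)
  obtain ⟨c, hc⟩ := (Submodule.Quotient.mk_eq_zero _).mp h2
  exact ⟨c, hc⟩

end Groth.Agent.UnipCrit
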